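import Mathlib

/-!
Linear groups with a normal subgroup containing all vector stabilizers: counting lemmas, the reducible case and the case of a
non-semiregular abelian normal subgroup.
-/

set_option autoImplicit false
set_option linter.unusedSectionVars false

namespace CL.DA

open Subgroup MulAction

variable {Γ V : Type*} [Group Γ] [Finite Γ] [AddCommGroup V] [Finite V] [DistribMulAction Γ V]

/-- the vectors fixed by a set of group elements -/
def Fx (V : Type*) [AddCommGroup V] [DistribMulAction Γ V] (B : Set Γ) : AddSubgroup V where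
  carrier := {v | ∀ b ∈ B, b • v = v}
  zero_mem' := fun b _ => smul_zero b
  add_mem' := fun h k b hb => by rw [smul_add, h b hb, k b hb]
  neg_mem' := fun h b hb => by rw [smul_neg, h b hb]

/-- `R` contains all vector stabilizers -/
def St (V : Type*) [AddCommGroup V] [DistribMulAction Γ V] (R : Subgroup Γ) : Prop :=
  ∀ (g : Γ) (v : V), v ≠ 0 → g • v = v → g ∈ R

def Inv (Γ : Type*) [Group Γ] [DistribMulAction Γ V] (U : AddSubgroup V) : Prop := ∀ g : Γ, ∀ u ∈ U, g • u ∈ U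

def Irr (Γ V : Type*) [Group Γ] [AddCommGroup V] [DistribMulAction Γ V] : Prop :=
  ∀ U : AddSubgroup V, Inv Γ U → U = ⊥ ∨ U = ⊤

/-- some nontrivial element of `E` fixes a nonzero vector -/
def NS (V : Type*) [AddCommGroup V] [DistribMulAction Γ V] (E : Subgroup Γ) : Prop :=
  ∃ d ∈ E, d ≠ 1 ∧ ∃ w : V, w ≠ 0 ∧ d • w = w

theorem l0 {R E : Subgroup Γ} (hR : St V R) (ER : E ≤ R) {v : V} (hv : v ≠ 0) :
    R.index * Nat.card E ≤ Nat.card (orbit Γ v) * Nat.card (E ⊓ stabilizer Γ v : Subgroup Γ) := by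
  have h1 : stabilizer Γ v ≤ R := fun g hg => hR g v hv hg
  have h2 : Nat.card E = Nat.card (E ⊓ stabilizer Γ v : Subgroup Γ) * (stabilizer Γ v).relIndex E := by
    rw [← inf_relIndex_left, relIndex, ← card_mul_index ((E ⊓ stabilizer Γ v).subgroupOf E),
      Nat.card_congr (subgroupOfEquivOfLe inf_le_left).toEquiv]
  have h3 : (stabilizer Γ v).relIndex E ≤ (stabilizer Γ v).relIndex R :=
    relIndex_le_of_le_right ER FiniteIndex.index_ne_zero
  rw [Nat.card_coe_set_eq, ← index_stabilizer, ← relIndex_mul_index h1, h2]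
  nlinarith [Nat.mul_le_mul_left (R.index * Nat.card (E ⊓ stabilizer Γ v : Subgroup Γ)) h3]

theorem le_card {α β : Type*} [Finite α] [Finite β] [Zero β] (f : α → β) (i : Function.Injective f) (z : ∀ a, f a ≠ 0) :
    Nat.card α + 1 ≤ Nat.card β := by
  rw [← Finite.card_option]
  refine Nat.card_le_card_of_injective (fun o => o.elim 0 f) ?_
  rintro (_ | a) (_ | b) e
  · rfl
  · exact absurd e.symm (z b)
  · exact absurd e (z a)
  · exact congrArg some (i e)

theorem red {R : Subgroup Γ} (hR : St V R) {U : AddSubgroup V} (hU : Inv Γ U) (n0 : U ≠ ⊥) (n1 : U ≠ ⊤) :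
    (R.index + 1) ^ 2 ≤ Nat.card V := by
  obtain ⟨u, hu, u0⟩ := (AddSubgroup.bot_or_exists_ne_zero U).resolve_left n0
  obtain ⟨v, -, hv⟩ := SetLike.exists_of_lt (lt_top_iff_ne_top.2 n1)
  have key : ∀ g : Γ, g • v - v ∈ U → g ∈ R := fun g hg => by
    by_contra c
    have i : Function.Injective fun a : U => (⟨g • a.1 - a.1, sub_mem (hU g _ a.2) a.2⟩ : U) := fun a b e => by
      by_contra ne
      refine c (hR g (a.1 - b.1) (fun k => ne (Subtype.ext (sub_eq_zero.1 k))) ?_)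
      have := congrArg Subtype.val e
      simp only at this
      rw [smul_sub, sub_eq_iff_eq_add.1 this]
      abel
    obtain ⟨a, e⟩ := Finite.surjective_of_injective i ⟨_, hg⟩
    have := congrArg Subtype.val e
    simp only at this
    refine c (hR g (v - a.1) (fun k => hv (sub_eq_zero.1 k ▸ a.2)) ?_)
    rw [smul_sub, sub_eq_iff_eq_add.1 this]
    abel
  have out : ∀ a b : Γ ⧸ R, a.out⁻¹ * b.out ∈ R → a = b := fun a b e => by
    rw [← a.out_eq, ← b.out_eq]
    exact QuotientGroup.eq.2 e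
  have h1 : R.index + 1 ≤ Nat.card U := le_card (fun q : Γ ⧸ R => (⟨q.out • u, hU _ _ hu⟩ : U))
    (fun a b e => out a b (hR _ u u0 (by
      have : a.out • u = b.out • u := congrArg Subtype.val e
      rw [mul_smul, ← this, inv_smul_smul])))
    fun a e => u0 ((smul_eq_zero_iff_eq a.out).1 (congrArg Subtype.val e))
  have h2 : R.index + 1 ≤ U.index := le_card (fun q : Γ ⧸ R => ((q.out • v : V) : V ⧸ U))
    (fun a b e => out a b (key _ (by
      have := hU a.out⁻¹ _ (QuotientAddGroup.eq.1 e)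
      rwa [smul_add, smul_neg, inv_smul_smul, ← mul_smul, neg_add_eq_sub] at this)))
    fun a e => hv (by simpa using hU a.out⁻¹ _ ((QuotientAddGroup.eq_zero_iff _).1 e))
  rw [← U.card_mul_index, sq]
  exact Nat.mul_le_mul h1 h2

theorem card_Fx_conj (g : Γ) {B B' : Set Γ} (h : ∀ b, b ∈ B' ↔ g⁻¹ * b * g ∈ B) :
    Nat.card (Fx V B') = Nat.card (Fx V B) := by
  refine Nat.card_congr ⟨fun a => ⟨g⁻¹ • a.1, fun b hb => ?_⟩, fun a => ⟨g • a.1, fun b hb => ?_⟩,
    fun a => by simp, fun a => by simp⟩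
  · have := a.2 (g * b * g⁻¹) ((h _).2 (by simpa [mul_assoc] using hb))
    rw [mul_smul, mul_smul, smul_eq_iff_eq_inv_smul] at this
    exact this
  · have := a.2 _ ((h _).1 hb)
    rw [mul_smul, mul_smul, inv_smul_eq_iff] at this
    exact this

theorem card_stab {E : Subgroup Γ} [hE : E.Normal] (g : Γ) (v : V) :
    Nat.card (E ⊓ stabilizer Γ (g • v) : Subgroup Γ) = Nat.card (E ⊓ stabilizer Γ v : Subgroup Γ) := by
  refine Nat.card_congr ⟨fun a => ⟨g⁻¹ * a.1 * g, hE.conj_mem' _ a.2.1 g, ?_⟩,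
    fun a => ⟨g * a.1 * g⁻¹, hE.conj_mem _ a.2.1 g, ?_⟩, fun a => by simp [mul_assoc], fun a => by simp [mul_assoc]⟩
  · have : a.1 • g • v = g • v := a.2.2
    show (g⁻¹ * a.1 * g) • v = v
    rw [mul_smul, mul_smul, this, inv_smul_smul]
  · have : a.1 • v = v := a.2.2
    show (g * a.1 * g⁻¹) • g • v = g • v
    rw [mul_smul, mul_smul, inv_smul_smul, this]

theorem mul_le_sup {U W : AddSubgroup V} (h : U ⊓ W = ⊥) : Nat.card U * Nat.card W ≤ Nat.card (U ⊔ W : AddSubgroup V) := by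
  rw [← Nat.card_prod]
  refine Nat.card_le_card_of_injective (fun a => ⟨a.1.1 + a.2.1, AddSubgroup.add_mem_sup a.1.2 a.2.2⟩) fun a b e => ?_
  have e : a.1.1 + a.2.1 = b.1.1 + b.2.1 := congrArg Subtype.val e
  have k : a.1.1 - b.1.1 ∈ U ⊓ W := ⟨U.sub_mem a.1.2 b.1.2, by
    rw [sub_eq_sub_iff_add_eq_add.2 (e.trans (add_comm _ _))]
    exact W.sub_mem b.2.2 a.2.2⟩
  rw [h, AddSubgroup.mem_bot, sub_eq_zero] at k
  exact Prod.ext (Subtype.ext k) (Subtype.ext (add_left_cancel (k ▸ e)))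

/-- pair counting -/
theorem cnt {E : Subgroup Γ} [E.Normal] {v : V} (hv : v ≠ 0) {s : ℕ} (I : Finset Γ)
    (hI : ∀ d ∈ E, d ≠ 1 → ∀ w : V, w ≠ 0 → d • w = w → d ∈ I) (hs : ∀ d ∈ I, Nat.card (Fx V {d}) ≤ s + 1) :
    Nat.card (orbit Γ v) * (Nat.card (E ⊓ stabilizer Γ v : Subgroup Γ) - 1) ≤ I.card * s := by
  classical
  have := Fintype.ofFinite Γ
  have := Fintype.ofFinite V
  have nz : ∀ w ∈ orbit Γ v, w ≠ 0 := by
    rintro _ ⟨g, rfl⟩ e
    exact hv ((smul_eq_zero_iff_eq g).1 e)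
  rw [Nat.card_eq_card_toFinset]
  refine Finset.card_mul_le_card_mul (fun w d => d • w = w) (fun w hw => ?_) fun d hd => ?_
  · have hw := Set.mem_toFinset.1 hw
    obtain ⟨g, e⟩ := hw
    rw [← card_stab g v, show g • v = w from e, ← SetLike.coe_sort_coe, Nat.card_eq_card_toFinset,
      ← Finset.card_erase_of_mem (a := 1) (Set.mem_toFinset.2 (one_mem _))]
    refine Finset.card_le_card fun d hd => ?_
    have k := Set.mem_toFinset.1 (Finset.mem_of_mem_erase hd)
    exact Finset.mem_filter.2 ⟨hI d k.1 (Finset.ne_of_mem_erase hd) w (nz w ⟨g, e⟩) k.2, k.2⟩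
  · have := hs d hd
    rw [← SetLike.coe_sort_coe, Nat.card_eq_card_toFinset,
      ← Finset.card_erase_add_one (a := 0) (Set.mem_toFinset.2 (zero_mem _))] at this
    refine (Finset.card_le_card fun w hw => ?_).trans (Nat.le_of_succ_le_succ this)
    obtain ⟨h1, h2⟩ := Finset.mem_filter.1 hw
    exact Finset.mem_erase.2 ⟨nz w (Set.mem_toFinset.1 h1), Set.mem_toFinset.2 fun b hb => hb ▸ h2⟩

theorem arith {y t : ℕ} (ht : 2 ≤ t) : (2 + t * y) ^ 2 ≤ 4 * (y + 1) ^ t := by
  induction t, ht using Nat.le_induction with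
  | base => exact le_of_eq (by ring)
  | succ t ht ih =>
    rw [pow_succ (y + 1), ← mul_assoc]
    refine le_trans ?_ (Nat.mul_le_mul_right _ ih)
    nlinarith [Nat.zero_le (y * y), Nat.zero_le (t * y * (t * y) * y), Nat.mul_le_mul_right (y * y) ht]

variable [FaithfulSMul Γ V]

theorem Fx_eq_bot (irr : Irr Γ V) {E : Subgroup Γ} [hE : E.Normal] (n : E ≠ ⊥) : Fx V (E : Set Γ) = ⊥ := by
  refine (irr (Fx V (E : Set Γ)) fun g u hu b hb => ?_).resolve_right fun e => n (eq_bot_iff.2 fun b hb => ?_)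
  · have := hu _ (hE.conj_mem' b hb g)
    rwa [mul_smul, mul_smul, inv_smul_eq_iff] at this
  · exact eq_of_smul_eq_smul (α := V) fun v => by rw [one_smul]; exact e.ge (AddSubgroup.mem_top v) b hb

/-- an abelian normal subgroup which is not semiregular -/
theorem ab {R A : Subgroup Γ} [R.Normal] [hA : A.Normal] (hR : St V R) (irr : Irr Γ V)
    (cm : ∀ a ∈ A, ∀ b ∈ A, a * b = b * a) (ns : NS V A) : (R.index + 1) ^ 2 ≤ Nat.card V := by
  classical
  have := Fintype.ofFinite V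
  obtain ⟨a, ha, a1, v0, hv0, e0⟩ := ns
  obtain ⟨v, hv, mx⟩ := Set.exists_max_image {v : V | v ≠ 0}
    (fun v => Nat.card (A ⊓ stabilizer Γ v : Subgroup Γ)) (Set.toFinite _) ⟨v0, hv0⟩
  set W : V → AddSubgroup V := fun w => Fx V (SetLike.coe (A ⊓ stabilizer Γ w)) with hW
  have self : ∀ w, w ∈ W w := fun w b hb => hb.2
  have nz : ∀ w ∈ orbit Γ v, w ≠ 0 := by
    rintro _ ⟨g, rfl⟩ e
    exact hv ((smul_eq_zero_iff_eq g).1 e)
  have eqW : ∀ w ∈ orbit Γ v, ∀ u ∈ W w, u ≠ 0 → W u = W w := by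
    rintro _ ⟨g, rfl⟩ u hu u0
    have : A ⊓ stabilizer Γ (g • v) = A ⊓ stabilizer Γ u :=
      eq_of_le_of_card_ge (fun b hb => ⟨hb.1, hu b hb⟩) ((mx u u0).trans (card_stab g v).ge)
    simp only [hW, this]
  have cW : ∀ w ∈ orbit Γ v, Nat.card (W w) = Nat.card (W v) := by
    rintro _ ⟨g, rfl⟩
    refine card_Fx_conj g fun b => and_congr ⟨fun h => hA.conj_mem' b h g, fun h => by
      simpa [mul_assoc] using hA.conj_mem _ h g⟩ ?_
    show b • g • v = g • v ↔ (g⁻¹ * b * g) • v = v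
    rw [mul_smul, mul_smul, inv_smul_eq_iff]
  have iW : ∀ w, ∀ c ∈ A, ∀ u ∈ W w, c • u ∈ W w := fun w c hc u hu b hb => by
    rw [← mul_smul, cm b hb.1 c hc, mul_smul, hu b hb]
  set T := (orbit Γ v).toFinset.image W with hT
  have mT : ∀ U ∈ T, ∃ w ∈ orbit Γ v, W w = U := fun U hU => by simpa [hT] using hU
  have ind : ∀ s : Finset (AddSubgroup V), s ⊆ T → (∀ c ∈ A, ∀ u ∈ s.sup id, c • u ∈ s.sup id) ∧
      (∀ U ∈ T, U ∉ s → U ⊓ s.sup id = ⊥) ∧ Nat.card (W v) ^ s.card ≤ Nat.card (s.sup id : AddSubgroup V) := by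
    intro s
    induction s using Finset.induction_on with
    | empty => simp
    | insert U s hU ih =>
      intro h
      obtain ⟨i1, i2, i3⟩ := ih ((Finset.subset_insert _ _).trans h)
      have UT := h (Finset.mem_insert_self _ _)
      obtain ⟨w, hw, rfl⟩ := mT U UT
      rw [Finset.sup_insert, id, Finset.card_insert_of_notMem hU]
      refine ⟨fun c hc u hu => ?_, fun U' h1 h2 => eq_bot_iff.2 fun x hx => ?_, ?_⟩
      · obtain ⟨y, hy, z, hz, rfl⟩ := AddSubgroup.mem_sup.1 hu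
        rw [smul_add]
        exact AddSubgroup.add_mem_sup (iW w c hc y hy) (i1 c hc z hz)
      · obtain ⟨w', hw', rfl⟩ := mT U' h1
        obtain ⟨y, hy, z, hz, e⟩ := AddSubgroup.mem_sup.1 hx.2
        by_contra x0
        refine h2 (Finset.mem_insert.2 (.inl ((eqW w' hw' x hx.1 x0).symm.trans (eqW w hw x (fun b hb => ?_) x0))))
        have k : b • x - x ∈ W w' ⊓ s.sup id := ⟨(W w').sub_mem (iW w' b hb.1 x hx.1) hx.1, by
          rw [← e, smul_add, hy b hb, add_sub_add_left_eq_sub]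
          exact (s.sup id).sub_mem (i1 b hb.1 z hz) hz⟩
        rwa [i2 _ h1 fun c => h2 (Finset.mem_insert_of_mem c), AddSubgroup.mem_bot, sub_eq_zero] at k
      · rw [pow_succ', ← cW w hw]
        exact (Nat.mul_le_mul_left _ (cW w hw ▸ i3)).trans (mul_le_sup (i2 _ UT hU))
  obtain ⟨y, hy⟩ : ∃ y, Nat.card (W v) = y + 1 := Nat.exists_eq_succ_of_ne_zero Nat.card_pos.ne'
  have h1 : (y + 1) ^ T.card ≤ Nat.card V :=
    (hy ▸ (ind T le_rfl).2.2).trans (AddSubgroup.card_le_card_addGroup _)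
  have h2 : Nat.card (orbit Γ v) ≤ y * T.card := by
    rw [Nat.card_eq_card_toFinset]
    refine Finset.card_le_mul_card_image _ _ fun U hU => ?_
    obtain ⟨w, hw, rfl⟩ := mT U hU
    have := (cW w hw).trans hy
    rw [← SetLike.coe_sort_coe, Nat.card_eq_card_toFinset,
      ← Finset.card_erase_add_one (a := 0) (Set.mem_toFinset.2 (zero_mem _))] at this
    refine (Finset.card_le_card fun u hu => ?_).trans (Nat.succ_injective this).le
    obtain ⟨k1, k2⟩ := Finset.mem_filter.1 hu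
    exact Finset.mem_erase.2 ⟨nz u (Set.mem_toFinset.1 k1), Set.mem_toFinset.2 (k2 ▸ self u)⟩
  have h3 : 2 ≤ T.card := by
    by_contra c
    have k : ∀ g : Γ, W (g • v) = W v := fun g => Finset.card_le_one.1 (by omega : T.card ≤ 1) _
      (Finset.mem_image_of_mem W (Set.mem_toFinset.2 (mem_orbit v g))) _
      (Finset.mem_image_of_mem W (Set.mem_toFinset.2 (mem_orbit_self v)))
    have t : W v = ⊤ := (irr (W v) fun g u hu => k g ▸ fun b hb => by
      have := hu (g⁻¹ * b * g) ⟨hA.conj_mem' b hb.1 g, by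
        have : b • g • v = g • v := hb.2
        show (g⁻¹ * b * g) • v = v
        rw [mul_smul, mul_smul, this, inv_smul_smul]⟩
      rwa [mul_smul, mul_smul, inv_smul_eq_iff] at this).resolve_left fun e => hv (e.le (self v))
    have b1 : A ⊓ stabilizer Γ v = ⊥ := eq_bot_iff.2 fun b hb =>
      eq_of_smul_eq_smul (α := V) fun u => by rw [one_smul]; exact t.ge (AddSubgroup.mem_top u) b hb
    have := mx v0 hv0
    simp only [b1, card_bot] at this
    exact a1 ((eq_bot_of_card_le _ this).le (show a ∈ A ⊓ stabilizer Γ v0 from ⟨ha, e0⟩))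
  have h4 : 2 * R.index ≤ Nat.card (orbit Γ v) := by
    have s1 : stabilizer Γ v ≤ R := fun g hg => hR g v hv hg
    rw [Nat.card_coe_set_eq, ← index_stabilizer, ← relIndex_mul_index s1]
    refine Nat.mul_le_mul_right _ ((Nat.two_le_iff _).2 ⟨FiniteIndex.index_ne_zero, fun e => hv ?_⟩)
    exact (Fx_eq_bot irr (E := R) fun k => a1 (k.le (hR a v0 hv0 e0))).le fun b hb => relIndex_eq_one.1 e hb
  have h5 := arith (y := y) h3
  have h6 : (2 * (R.index + 1)) ^ 2 ≤ (2 + T.card * y) ^ 2 := Nat.pow_le_pow_left (by nlinarith) 2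
  nlinarith

end CL.DA
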