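import Cfsg.Agent.PERM.DA.A1
import Cfsg.Agent.PLOC.PFrattini

set_option autoImplicit false
set_option linter.unusedSectionVars false

namespace CL.DA

open Subgroup MulAction
open scoped commutatorElement

section

variable {Γ V : Type*} [Group Γ] [Finite Γ] [AddCommGroup V] [Finite V] [DistribMulAction Γ V]

theorem half {T J : Finset Γ} (d : Γ) (h1 : J ⊆ T) (h2 : ∀ j ∈ J, d * j ∈ T) (h3 : ∀ j ∈ J, d * j ∉ J) :
    2 * J.card ≤ T.card := by
  classical
  have e : (J.image (d * ·)).card = J.card := Finset.card_image_of_injective _ (mul_right_injective d)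
  have dj : Disjoint J (J.image (d * ·)) := Finset.disjoint_right.2 fun a ha => by
    obtain ⟨j, hj, rfl⟩ := Finset.mem_image.1 ha
    exact h3 j hj
  rw [two_mul]
  nth_rewrite 2 [← e]
  rw [← Finset.card_union_of_disjoint dj]
  exact Finset.card_le_card (Finset.union_subset h1 fun a ha => by
    obtain ⟨j, hj, rfl⟩ := Finset.mem_image.1 ha
    exact h2 j hj)

theorem Fx_conj (g d : Γ) : Nat.card (Fx V {g * d * g⁻¹}) = Nat.card (Fx V {d}) :=
  card_Fx_conj g fun b => ⟨fun h => by rw [h]; simp [mul_assoc], fun h => by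
    rw [← (show g⁻¹ * b * g = d from h)]; simp [mul_assoc]⟩

theorem mem_Fx {d : Γ} {v : V} : v ∈ Fx V {d} ↔ d • v = v := ⟨fun h => h d rfl, fun h _ hb => hb ▸ h⟩

theorem Fx_inf {a b : Γ} (h : ∀ w : V, (a⁻¹ * b) • w = w → w = 0) : Fx V {a} ⊓ Fx V {b} = ⊥ :=
  eq_bot_iff.2 fun w hw => h w (by rw [mul_smul, mem_Fx.1 hw.2, inv_smul_eq_iff, mem_Fx.1 hw.1])

variable [FaithfulSMul Γ V]

/-- a normal `p`-subgroup which is not semiregular -/
theorem pgrp {R P : Subgroup Γ} [R.Normal] [hP : P.Normal] (hR : St V R) (irr : Irr Γ V) {p : ℕ} [hp : Fact p.Prime]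
    (pP : IsPGroup p P) (PR : P ≤ R) (ns : NS V P) : (R.index + 1) ^ 2 ≤ Nat.card V := by
  classical
  have := Fintype.ofFinite Γ
  obtain ⟨E, EP, ⟨hE, nE⟩, mn⟩ := Finite.exists_le_minimal (p := fun E : Subgroup Γ => E.Normal ∧ NS V E) ⟨hP, ns⟩
  have pE := pP.to_le EP
  have ER := EP.trans PR
  by_cases zn : NS V (E ⊓ centralizer (E : Set Γ))
  · exact ab (A := E ⊓ centralizer (E : Set Γ)) hR irr (fun a ha b hb => hb.2 a ha.1) zn
  have zs : ∀ z ∈ E, (∀ g ∈ E, g * z = z * g) → ∀ w : V, w ≠ 0 → z • w = w → z = 1 := fun z hz c w w0 e => by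
    by_contra k
    exact zn ⟨z, ⟨hz, c⟩, k, w, w0, e⟩
  have nt : Nontrivial E := by
    obtain ⟨d, hd, d1, -⟩ := nE
    exact ⟨⟨d, hd⟩, 1, fun e => d1 (congrArg Subtype.val e)⟩
  have fs : ∀ z ∈ (frattini E).map E.subtype, ∀ w : V, w ≠ 0 → z • w = w → z = 1 := fun z hz w w0 e => by
    by_contra k
    have := mn ⟨inferInstance, z, hz, k, w, w0, e⟩ (map_subtype_le _)
    refine PG.frattini_ne_top (P := E) (eq_top_iff.2 fun g _ => ?_)
    obtain ⟨y, hy, e⟩ := this g.2
    exact Subtype.ext e ▸ hy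
  have cs : ∀ a ∈ E, ∀ g ∈ E, g * a ≠ a * g → ∀ w : V, (a⁻¹ * (g * a * g⁻¹)) • w = w → w = 0 :=
    fun a ha g hg ne w e => by
      by_contra w0
      have := fs _ (PG.commutator_le_frattini_map pE (commutator_mem_commutator (inv_mem ha) hg)) w w0
        (by rw [commutatorElement_def, inv_inv]; simpa [mul_assoc] using e)
      rw [commutatorElement_eq_one_iff_mul_comm] at this
      exact ne (Commute.inv_left_iff.1 this).symm
  set I : Finset Γ := Finset.univ.filter fun d => d ∈ E ∧ d ≠ 1 ∧ ∃ w : V, w ≠ 0 ∧ d • w = w with hI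
  have mI : ∀ {d}, d ∈ I ↔ d ∈ E ∧ d ≠ 1 ∧ ∃ w : V, w ≠ 0 ∧ d • w = w := by simp [hI]
  obtain ⟨d, hd, mx⟩ := I.exists_max_image (fun d => Nat.card (Fx V {d})) (by
    obtain ⟨d, h⟩ := nE
    exact ⟨d, mI.2 h⟩)
  obtain ⟨s, hs⟩ : ∃ s, Nat.card (Fx V {d}) = s + 1 := Nat.exists_eq_succ_of_ne_zero Nat.card_pos.ne'
  obtain ⟨dE, d1, v, v0, dv⟩ := mI.1 hd
  have c1 : ∀ {w : V}, w ≠ 0 → R.index * Nat.card E ≤ Nat.card (orbit Γ w) * Nat.card (E ⊓ stabilizer Γ w : Subgroup Γ) ∧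
      Nat.card (orbit Γ w) * (Nat.card (E ⊓ stabilizer Γ w : Subgroup Γ) - 1) ≤ I.card * s := fun {w} w0 =>
    ⟨l0 hR ER w0, cnt w0 I (fun d a b w c e => mI.2 ⟨a, b, w, c, e⟩) fun d' h' => hs ▸ mx d' h'⟩
  have fin : ∀ {w : V} (a b : ℕ), w ≠ 0 → 0 < a → a * Nat.card (E ⊓ stabilizer Γ w : Subgroup Γ) ≤
      b * (Nat.card (E ⊓ stabilizer Γ w : Subgroup Γ) - 1) → ∀ c, b * I.card ≤ c * Nat.card E → a * R.index ≤ c * s :=
    fun {w} a b w0 a0 h1 c h2 => by
      obtain ⟨k1, k2⟩ := c1 w0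
      refine Nat.le_of_mul_le_mul_right ?_ (Nat.card_pos (α := E))
      nlinarith [Nat.mul_le_mul_left a k1, Nat.mul_le_mul_left b k2, Nat.mul_le_mul_left (Nat.card (orbit Γ w)) h1,
        Nat.mul_le_mul_right s h2]
  have cE : Nat.card E = (E : Set Γ).toFinset.card := Nat.card_eq_card_toFinset (E : Set Γ)
  have IE : I ⊆ (E : Set Γ).toFinset := fun a ha => Set.mem_toFinset.2 (mI.1 ha).1
  have pw : ∀ w : V, ∃ j, Nat.card (E ⊓ stabilizer Γ w : Subgroup Γ) = p ^ j := fun w =>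
    (pE.to_le inf_le_left).exists_card_eq
  have ge : ∀ (w : V) (F : Finset Γ), (∀ a ∈ F, a ∈ E ∧ a • w = w) →
      F.card ≤ Nat.card (E ⊓ stabilizer Γ w : Subgroup Γ) := fun w F h => by
    rw [← SetLike.coe_sort_coe, Nat.card_eq_card_toFinset]
    exact Finset.card_le_card fun a ha => Set.mem_toFinset.2 (h a ha)
  have g2 : 2 ≤ Nat.card (E ⊓ stabilizer Γ v : Subgroup Γ) :=
    (Finset.card_pair d1).ge.trans (ge v {d, 1} (by simp [dE, dv, one_mem]))
  have CE : E ⊓ centralizer {d} < E := lt_of_le_of_ne inf_le_left fun e =>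
    d1 (zs d dE (fun g hg => mem_centralizer_singleton_iff.1 (e.ge hg).2) v v0 dv)
  rcases hp.out.eq_two_or_odd' with rfl | odd
  · have sq : ∀ a ∈ I, a * a = 1 := fun a ha => by
      obtain ⟨h1, -, w, w0, e⟩ := mI.1 ha
      exact fs _ (pow_two a ▸ PG.pow_mem_frattini_map pE h1) w w0 (by rw [mul_smul, e, e])
    have cm : ∀ a ∈ I, d * a ∈ I → d * a = a * d := fun a ha h => by
      have := sq _ h
      calc d * a = d * (d * a * (d * a)) * a := by rw [this, mul_one]
        _ = d * d * (a * d) * (a * a) := by group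
        _ = a * d := by rw [sq d hd, sq a ha, one_mul, mul_one]
    obtain ⟨g, hg, gC⟩ := SetLike.exists_of_lt CE
    have h1 : (s + 1) * (s + 1) ≤ Nat.card V := by
      have := mul_le_sup (Fx_inf (cs d dE g hg fun e => gC ⟨hg, mem_centralizer_singleton_iff.2 e⟩))
      rw [Fx_conj, hs] at this
      exact this.trans (AddSubgroup.card_le_card_addGroup _)
    suffices R.index ≤ s by nlinarith
    by_cases big : ∃ w : V, w ≠ 0 ∧ 3 ≤ Nat.card (E ⊓ stabilizer Γ w : Subgroup Γ)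
    · obtain ⟨w, w0, h3⟩ := big
      have h4 : 4 ≤ Nat.card (E ⊓ stabilizer Γ w : Subgroup Γ) := by
        obtain ⟨j, hj⟩ := pw w
        rw [hj] at h3 ⊢
        match j with
        | 0 => omega
        | 1 => omega
        | j + 2 => rw [pow_add]; have := Nat.one_le_two_pow (n := j); omega
      set C := (SetLike.coe (E ⊓ centralizer {d})).toFinset with hC
      have h5 : 2 * C.card ≤ Nat.card E := cE ▸ half g (fun a ha => Set.mem_toFinset.2 (Set.mem_toFinset.1 ha).1)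
        (fun a ha => Set.mem_toFinset.2 (mul_mem hg (Set.mem_toFinset.1 ha).1))
        fun a ha k => gC ((mul_mem_cancel_right (Set.mem_toFinset.1 ha)).1 (Set.mem_toFinset.1 k))
      have dC : d ∈ E ⊓ centralizer {d} := ⟨dE, mem_centralizer_singleton_iff.2 rfl⟩
      have h6 : 2 * (I \ C).card ≤ ((E : Set Γ).toFinset \ C).card := half d (Finset.sdiff_subset_sdiff IE le_rfl)
        (fun a ha => Finset.mem_sdiff.2 ⟨Set.mem_toFinset.2 (mul_mem dE (mI.1 (Finset.mem_sdiff.1 ha).1).1), fun k =>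
          (Finset.mem_sdiff.1 ha).2 (Set.mem_toFinset.2 ((mul_mem_cancel_left dC).1 (Set.mem_toFinset.1 k)))⟩)
        fun a ha k => (Finset.mem_sdiff.1 ha).2 (Set.mem_toFinset.2 ⟨(mI.1 (Finset.mem_sdiff.1 ha).1).1,
          mem_centralizer_singleton_iff.2 (cm a (Finset.mem_sdiff.1 ha).1 (Finset.mem_sdiff.1 k).1).symm⟩)
      have h7 := Finset.card_sdiff_add_card_eq_card
        (show C ⊆ (E : Set Γ).toFinset from fun a ha => Set.mem_toFinset.2 (Set.mem_toFinset.1 ha).1)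
      have h8 := Finset.le_card_sdiff C I
      have := fin 3 4 w0 (by norm_num) (by omega) 3 (by omega)
      omega
    · have : Nontrivial (center E) := pE.center_nontrivial
      obtain ⟨z, hz⟩ := exists_prime_orderOf_dvd_card' (G := center E) 2 (by
        obtain ⟨j, j0, hj⟩ := (pE.to_subgroup (center E)).nontrivial_iff_card.1 this
        exact hj ▸ dvd_pow_self 2 j0.ne')
      have z2 : z.1.1 * z.1.1 = 1 := by
        have := pow_orderOf_eq_one z
        rw [hz, pow_two] at this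
        exact congrArg (fun a : center E => a.1.1) this
      have zc : ∀ g ∈ E, g * z.1.1 = z.1.1 * g := fun g hg => congrArg Subtype.val (mem_center_iff.1 z.2 ⟨g, hg⟩)
      have z1 : z.1.1 ≠ 1 := fun e => by
        rw [show z = 1 from Subtype.ext (Subtype.ext e), orderOf_one] at hz
        omega
      have zI : z.1.1 ∉ I := fun k => by
        obtain ⟨-, -, w, w0, e⟩ := mI.1 k
        exact z1 (zs _ z.1.2 zc w w0 e)
      have zn : ∀ w : V, z.1.1 • w = -w := fun w => by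
        by_contra c
        refine z1 (zs _ z.1.2 zc (z.1.1 • w + w) (fun e => c (eq_neg_of_add_eq_zero_left e)) ?_)
        rw [smul_add, ← mul_smul, z2, one_smul, add_comm]
      have nb : ∀ a ∈ E, a ≠ 1 → a ≠ d → ∀ w : V, w ≠ 0 → d • w = w → a • w = w → False := fun a ha a1 ad w w0 e1 e2 =>
        big ⟨w, w0, (Finset.card_eq_three.2 ⟨a, d, 1, ad, a1, d1, rfl⟩).ge.trans
          (ge w {a, d, 1} (by simp [ha, dE, e1, e2, one_mem]))⟩
      have h5 : 2 * I.card ≤ Nat.card E := cE ▸ half d IE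
        (fun a ha => Set.mem_toFinset.2 (mul_mem dE (mI.1 ha).1)) fun a ha k => by
          obtain ⟨aE, a1, -⟩ := mI.1 ha
          have ad : a ≠ d := fun e => (mI.1 k).2.1 (by rw [e, sq d hd])
          by_cases c : a • v + v = 0
          · refine nb (a * z.1.1) (mul_mem aE z.1.2) (fun e => zI ?_) (fun e => zI ?_) v v0 dv ?_
            · rwa [← mul_left_cancel (e.trans (sq a ha).symm)] at ha
            · rwa [← e, mul_assoc, ← zc a aE, ← mul_assoc, sq a ha, one_mul] at k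
            · rw [mul_smul, zn, smul_neg, eq_neg_of_add_eq_zero_left c, neg_neg]
          · refine nb a aE a1 ad _ c ?_ ?_
            · rw [smul_add, ← mul_smul, cm a ha k, mul_smul, dv]
            · rw [smul_add, ← mul_smul, sq a ha, one_smul, add_comm]
      have := fin 1 2 v0 (by norm_num) (by omega) 1 (by omega)
      omega
  · have h3 : 3 ≤ Nat.card (E ⊓ stabilizer Γ v : Subgroup Γ) := by
      obtain ⟨j, hj⟩ := pw v
      have := (odd.pow (n := j))
      rw [← hj, Nat.odd_iff] at this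
      omega
    have h4 := fin 2 3 v0 (by norm_num) (by omega) 3 (Nat.mul_le_mul_left _ (cE ▸ Finset.card_le_card IE))
    have nil : Group.IsNilpotent E := pE.isNilpotent
    obtain ⟨g, hg, gC⟩ := SetLike.exists_of_lt (Group.normalizerCondition_of_isNilpotent
      ((centralizer {d}).subgroupOf E) (lt_top_iff_ne_top.2 fun e => CE.ne
        (inf_eq_left.2 (subgroupOf_eq_top.1 e))))
    have dC : (⟨d, dE⟩ : E) ∈ (centralizer {d}).subgroupOf E := mem_centralizer_singleton_iff.2 rfl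
    have n1 : g.1 * d ≠ d * g.1 := fun e => gC (mem_centralizer_singleton_iff.2 e)
    have n2 : g.1 * g.1 * d ≠ d * (g.1 * g.1) := fun e => by
      obtain ⟨j, hj⟩ := pE g
      obtain ⟨m, hm⟩ := odd.pow (n := j)
      have k : g * g ∈ (centralizer {d}).subgroupOf E := mem_centralizer_singleton_iff.2 e
      refine gC ((mul_mem_cancel_left (pow_mem k m)).1 ?_)
      rw [← pow_two, ← pow_mul, ← pow_succ, ← hm, hj]
      exact one_mem _
    have k1 : g.1 * d * g.1⁻¹ * d = d * (g.1 * d * g.1⁻¹) :=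
      mem_centralizer_singleton_iff.1 ((mem_normalizer_iff.1 hg _).1 dC)
    have k2 : g.1 * g.1 * d * (g.1 * g.1)⁻¹ * d = d * (g.1 * g.1 * d * (g.1 * g.1)⁻¹) :=
      mem_centralizer_singleton_iff.1 ((mem_normalizer_iff.1 (mul_mem hg hg) _).1 dC)
    have e2 : g.1 * g.1 * d * (g.1 * g.1)⁻¹ = g.1 * (g.1 * d * g.1⁻¹) * g.1⁻¹ := by group
    have i1 := Fx_inf (V := V) (cs d dE g g.2 n1)
    have i2 := Fx_inf (V := V) (cs d dE _ (mul_mem g.2 g.2) n2)
    have i3 := Fx_inf (V := V) (cs (g.1 * d * g.1⁻¹) (mul_mem (mul_mem g.2 dE) (inv_mem g.2)) g g.2 fun e => n1 (by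
      calc g.1 * d = g.1⁻¹ * (g.1 * (g.1 * d * g.1⁻¹)) * g.1 := by group
        _ = d * g.1 := by rw [e]; group))
    rw [← e2] at i3
    have iv : ∀ {a b : Γ}, a * b = b * a → ∀ u ∈ Fx V {a}, b • u - u ∈ Fx V {a} := fun {a b} e u hu =>
      AddSubgroup.sub_mem _ (mem_Fx.2 (by rw [← mul_smul, e, mul_smul, mem_Fx.1 hu])) hu
    have i4 : Fx V {g.1 * g.1 * d * (g.1 * g.1)⁻¹} ⊓ (Fx V {d} ⊔ Fx V {g.1 * d * g.1⁻¹}) = ⊥ :=
      eq_bot_iff.2 fun x hx => by
        obtain ⟨y, hy, z, hz, e⟩ := AddSubgroup.mem_sup.1 hx.2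
        have k : d • x - x ∈ Fx V {g.1 * d * g.1⁻¹} ⊓ Fx V {g.1 * g.1 * d * (g.1 * g.1)⁻¹} := ⟨by
          rw [← e, smul_add, mem_Fx.1 hy, add_sub_add_left_eq_sub]
          exact iv k1 z hz, iv k2 x hx.1⟩
        rw [i3, AddSubgroup.mem_bot, sub_eq_zero] at k
        exact i2.le ⟨mem_Fx.2 k, hx.1⟩
    have h5 := mul_le_sup i1
    have h6 := (mul_le_sup i4).trans (AddSubgroup.card_le_card_addGroup _)
    rw [Fx_conj, hs] at h5 h6
    have h7 : (2 * (R.index + 1)) ^ 2 ≤ (3 * s + 2) ^ 2 := Nat.pow_le_pow_left (by omega) 2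
    nlinarith [Nat.mul_le_mul_left (s + 1) h5, Nat.zero_le (s * s * s), Nat.zero_le (s * s)]

end

universe u

theorem aux {V : Type*} [AddCommGroup V] [Finite V] (n : ℕ) : ∀ (Γ : Type u) [Group Γ] [Finite Γ] [DistribMulAction Γ V]
    [FaithfulSMul Γ V] (R : Subgroup Γ) [R.Normal], Nat.card Γ = n → St V R → Irr Γ V → NS V (⊤ : Subgroup Γ) →
    (R.index + 1) ^ 2 ≤ Nat.card V := by
  induction n using Nat.strong_induction_on with
  | _ n ih =>
  intro Γ _ _ _ _ R _ hn hR irr ⟨x, _, x1, v, v0, e⟩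
  obtain ⟨p, pp, hp⟩ := Nat.exists_prime_and_dvd (n := Nat.card (stabilizer Γ v)) fun k =>
    x1 ((card_eq_one.1 k).le (show x ∈ stabilizer Γ v from e))
  have := Fact.mk pp
  obtain ⟨y, hy⟩ := exists_prime_orderOf_dvd_card' p hp
  have yR : y.1 ∈ R := hR _ v v0 y.2
  have y1 : y.1 ≠ 1 := fun k => by
    rw [show y = 1 from Subtype.ext k, orderOf_one] at hy
    exact pp.ne_one hy.symm
  obtain ⟨P, hP⟩ := (IsPGroup.of_card (p := p) (n := 1) (G := zpowers (⟨y.1, yR⟩ : R)) (by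
    rw [Nat.card_zpowers, ← Subgroup.orderOf_coe, pow_one, ← hy]
    exact Subgroup.orderOf_coe y)).exists_le_sylow
  have yP : y.1 ∈ (P : Subgroup R).map R.subtype := ⟨_, hP (mem_zpowers _), rfl⟩
  have fr := P.normalizer_sup_eq_top
  set N := normalizer (((P : Subgroup R).map R.subtype : Subgroup Γ) : Set Γ) with hN
  by_cases t : N = ⊤
  · have := normalizer_eq_top_iff.1 t
    exact pgrp hR irr (P.isPGroup'.map R.subtype) (map_subtype_le _) ⟨_, yP, y1, v, v0, y.2⟩
  have ei : (R.subgroupOf N).index = R.index := by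
    rw [← relIndex, ← relIndex_sup_right, fr, relIndex_top_right]
  have st : St V (R.subgroupOf N) := fun g w w0 k => hR g w w0 k
  rw [← ei]
  by_cases c : Irr N V
  · exact ih _ (hn ▸ (card_le_card_group N).lt_of_ne fun k => t (eq_top_of_card_eq N k)) N _ rfl st c
      ⟨⟨y.1, le_normalizer yP⟩, trivial, fun k => y1 (congrArg Subtype.val k), v, v0, y.2⟩
  · simp only [Irr, not_forall, not_or] at c
    obtain ⟨U, h1, h2, h3⟩ := c
    exact red st h1 h2 h3

/-- An irreducible linear group which is not semiregular on the nonzero vectors: a normal subgroup containing all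
vector stabilizers has index at most `√|V| - 1`. -/
theorem aff {Γ V : Type*} [Group Γ] [Finite Γ] [AddCommGroup V] [Finite V] [DistribMulAction Γ V] [FaithfulSMul Γ V]
    (R : Subgroup Γ) [R.Normal] (hR : ∀ (g : Γ) (v : V), v ≠ 0 → g • v = v → g ∈ R)
    (irr : ∀ U : AddSubgroup V, (∀ g : Γ, ∀ u ∈ U, g • u ∈ U) → U = ⊥ ∨ U = ⊤)
    {x : Γ} {v : V} (hx : x ≠ 1) (hv : v ≠ 0) (e : x • v = v) : (R.index + 1) ^ 2 ≤ Nat.card V :=
  aux _ Γ R rfl hR irr ⟨x, trivial, hx, v, hv, e⟩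

end CL.DA
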